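import Cfsg.Agent.H671.Spor.Wedge
import Cfsg.Agent.H678.DG.Basic
import Cfsg.Agent.H852.IMMathieu2
import Cfsg.Agent.GolayOrbit.Flags

/-!
# The degree graphs of `M22` and `M23` (helper671)

* `facts_m22` : degrees 210, 55;
* `facts_m23` : degrees 22, 230, 231.
-/

set_option autoImplicit false
open scoped Pointwise

namespace Cfsg.Agent.H671.MFacts

open Cfsg Cfsg.Agent.GolayOrbit.Basic Cfsg.Agent.GolayOrbit.Code Cfsg.Agent.GolayOrbit.Walk
  Cfsg.Agent.GolayOrbit.Cover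
open Cfsg.Agent.H852.IMMathieu Cfsg.Agent.H852.IMPerm Cfsg.Agent.H852.IMRankThree
open Cfsg.Agent.H690.Spor.RankThree Cfsg.Agent.H678.DG

universe u

/-- generators of the stabiliser of the four points `none, 0, 1, 2` (with inverses). -/
def gens4 : List (List ℕ) :=
  [
   [1, 2, 4, 524288, 32, 64, 2048, 262144, 1048576, 8192, 16, 1024, 512, 8, 128, 4194304, 131072, 2097152, 32768,
    4096, 65536, 256, 16384, 8388608],
   [1, 2, 4, 64, 2048, 2097152, 1048576, 512, 32, 16, 4194304, 16384, 8, 262144, 128, 8192, 4096, 524288, 131072,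
    32768, 65536, 1024, 256, 8388608],
   [1, 2, 4, 8192, 1024, 16, 32, 16384, 2097152, 4096, 2048, 64, 524288, 512, 4194304, 262144, 1048576, 65536, 128,
    8, 256, 131072, 32768, 8388608],
   [1, 2, 4, 4096, 512, 256, 8, 16384, 4194304, 128, 2097152, 16, 65536, 32768, 2048, 524288, 1048576, 262144,
    8192, 131072, 64, 32, 1024, 8388608]]

/-- a walk through the pairs of an orbit. -/
def walkA : List ℕ :=
  [0, 0, 0, 0, 1, 0, 0, 0, 0, 1, 0, 0, 0, 0, 3, 0, 0, 0, 0, 1, 0, 0, 0, 0, 1, 0, 0, 0, 0, 3, 0, 0, 0, 0, 1, 1, 0, 0,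
  0, 0, 1, 0, 0, 0, 0, 0, 1, 0, 0, 0, 0, 3, 0, 0, 0, 0, 3, 3, 0, 0, 0, 0]

/-- a walk through the pairs of an orbit. -/
def walkB : List ℕ :=
  [0, 0, 0, 0, 1, 0, 0, 0, 0, 1, 0, 0, 0, 0, 3, 0, 0, 0, 0, 3, 0, 0, 0, 0, 1, 0, 0, 0, 0, 0, 1, 0, 0, 0, 0, 1, 0, 0,
  0, 0, 3, 0, 0, 0, 0, 1, 0, 0, 0, 0, 1, 0, 0, 0, 0, 3, 0, 0, 0, 0, 1, 0, 0, 0, 0, 3, 0, 0, 0, 0, 1, 0, 0, 0, 0, 1,
  0, 0, 0, 0, 3, 0, 0, 0, 0, 1, 0, 0, 0, 0, 0, 1, 0, 0, 0, 0, 3, 0, 0, 0, 0, 1, 0, 0, 0, 0, 1, 0, 0, 0, 0, 3, 0, 0,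
  0, 0, 3, 0, 0, 0, 0, 1, 0, 0, 0, 0, 1, 0, 0, 0, 0, 0, 1, 0, 0, 0, 0, 3, 0, 0, 0, 0, 1, 0, 0, 0, 0, 1, 0, 0, 0, 0,
  3, 0, 0, 0, 0, 1, 1, 0, 0, 0, 0, 2, 1, 0, 0, 0, 0, 0, 1, 0, 0, 0, 0, 1, 0, 0, 0, 0, 3, 0, 0, 0, 0, 1, 1, 0, 0, 0,
  0, 3, 0, 0, 0, 0, 3, 0, 0, 0, 0, 1, 0, 0, 0, 0, 3, 0, 0, 0, 0, 1, 0, 0, 0, 0, 2, 1, 0, 0, 0, 0, 2, 1, 0, 0, 0, 0,
  0, 0, 1, 0, 0, 0, 0, 1, 0, 0, 0, 0, 1, 1, 0, 0, 0, 0, 0, 0, 1, 0, 0, 0, 0, 0, 1, 0, 0, 0, 0, 0, 1, 1, 0, 0, 0, 0,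
  1, 0, 0, 0, 0, 0, 1, 0, 0, 0, 0, 1, 0, 0, 0, 0, 2, 2, 1, 0, 0, 0, 0, 0, 1, 0, 0, 0, 0, 0, 1, 0, 0, 0, 0, 3, 0, 0,
  0, 0, 2, 3, 0, 0, 0, 0, 1, 1, 0, 0, 0, 0, 1, 0, 0, 0, 0, 3, 0, 0, 0, 0, 0, 1, 2, 3, 0, 0, 0, 0, 0, 3, 2, 1, 0, 0,
  0, 0, 0, 1, 2, 3, 3, 0, 0, 0, 0]


/-- the five tetrads on the remaining twenty points -/
def tets : List ℕ := [147496, 4268048, 2621632, 268544, 1082880]

/-- two positions in one tetrad -/
def same (i j : ℕ) : Bool := tets.any fun T => bitAt T i && bitAt T j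

/-- two positions in one tetrad, not among the four -/
def inA (i j : ℕ) : Bool :=
  cond (bitAt 8388615 i) false (cond (bitAt 8388615 j) false (cond (Nat.beq i j) false (same i j)))

/-- two positions in different tetrads, not among the four -/
def inB (i j : ℕ) : Bool :=
  cond (bitAt 8388615 i) false (cond (bitAt 8388615 j) false (cond (same i j) false true))

theorem coversA : covers [8388608, 1, 2, 4] gens4 2 key2 walkA
    (2 ^ pos (some 3) + 16777216 * 2 ^ pos (some 5)) (pairList inA) = true := by decide +kernel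

theorem coversB : covers [8388608, 1, 2, 4] gens4 2 key2 walkB
    (2 ^ pos (some 3) + 16777216 * 2 ^ pos (some 4)) (pairList inB) = true := by decide +kernel

theorem fix_of_fixing {g : Equiv.Perm GolayPt} (hg : g ∈ fixing [8388608, 1, 2, 4]) :
    g ∈ M24 ∧ g none = none ∧ g (some 0) = some 0 ∧ g (some 1) = some 1 ∧ g (some 2) = some 2 := by
  obtain ⟨h1, h2⟩ := mem_fixing.1 hg
  have key : ∀ p : GolayPt, 2 ^ pos p ∈ [8388608, 1, 2, 4] → g p = p := by
    intro p hp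
    have h3 := h2 _ hp
    rw [ofMask_two_pow_pos] at h3
    exact smul_singleton_eq h3
  exact ⟨h1, key none (by decide), key (some 0) (by decide), key (some 1) (by decide), key (some 2) (by decide)⟩

theorem cases_AB : ∀ c d : GolayPt, c ≠ d → c ≠ none → c ≠ some 0 → c ≠ some 1 → c ≠ some 2 → d ≠ none →
    d ≠ some 0 → d ≠ some 1 → d ≠ some 2 → (inA (pos c) (pos d) = true ∧ inA (pos d) (pos c) = true) ∨
      (inB (pos c) (pos d) = true ∧ inB (pos d) (pos c) = true) := by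
  decide +kernel

/-- the stabiliser of four points swaps any two others -/
theorem exists_swap {c d : GolayPt} (h : c ≠ d) (c1 : c ≠ none) (c2 : c ≠ some 0) (c3 : c ≠ some 1) (c4 : c ≠ some 2)
    (d1 : d ≠ none) (d2 : d ≠ some 0) (d3 : d ≠ some 1) (d4 : d ≠ some 2) :
    ∃ g ∈ fixing [8388608, 1, 2, 4], g c = d ∧ g d = c := by
  rcases cases_AB c d h c1 c2 c3 c4 d1 d2 d3 d4 with ⟨h1, h2⟩ | ⟨h1, h2⟩
  · obtain ⟨g, hg, g1, g2⟩ := exists_of_covers_pair coversA (mem_pairList h1)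
    obtain ⟨g', hg', g1', g2'⟩ := exists_of_covers_pair coversA (mem_pairList h2)
    refine ⟨g' * g⁻¹, Subgroup.mul_mem _ hg' (Subgroup.inv_mem _ hg), ?_, ?_⟩
    · rw [Equiv.Perm.mul_apply, Equiv.Perm.inv_eq_iff_eq.2 g1.symm, g1']
    · rw [Equiv.Perm.mul_apply, Equiv.Perm.inv_eq_iff_eq.2 g2.symm, g2']
  · obtain ⟨g, hg, g1, g2⟩ := exists_of_covers_pair coversB (mem_pairList h1)
    obtain ⟨g', hg', g1', g2'⟩ := exists_of_covers_pair coversB (mem_pairList h2)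
    refine ⟨g' * g⁻¹, Subgroup.mul_mem _ hg' (Subgroup.inv_mem _ hg), ?_, ?_⟩
    · rw [Equiv.Perm.mul_apply, Equiv.Perm.inv_eq_iff_eq.2 g1.symm, g1']
    · rw [Equiv.Perm.mul_apply, Equiv.Perm.inv_eq_iff_eq.2 g2.symm, g2']

/-- the 22 points -/
def pts : Set GolayPt := {x | x ≠ none ∧ x ≠ some 0}

theorem hpts (g : Equiv.Perm GolayPt) (hg : g ∈ Spor.M22) (x : GolayPt) (hx : x ∈ pts) : g x ∈ pts := by
  have h1 : g none = none := hg.1.2
  have h2 : g (some 0) = some 0 := hg.2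
  exact ⟨fun h => hx.1 (g.injective (h.trans h1.symm)), fun h => hx.2 (g.injective (h.trans h2.symm))⟩

theorem inj4 {a b : GolayPt} (ha : a ∈ pts) (hb : b ∈ pts) (hab : a ≠ b) :
    Function.Injective ![none, some 0, a, b] := by
  obtain ⟨a1, a2⟩ := ha
  obtain ⟨b1, b2⟩ := hb
  intro i j hij
  fin_cases i <;> fin_cases j <;> simp_all

theorem inj5 {a b c : GolayPt} (ha : a ∈ pts) (hb : b ∈ pts) (hc : c ∈ pts) (hab : a ≠ b) (hac : a ≠ c)
    (hbc : b ≠ c) : Function.Injective ![none, some 0, a, b, c] := by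
  obtain ⟨a1, a2⟩ := ha
  obtain ⟨b1, b2⟩ := hb
  obtain ⟨c1, c2⟩ := hc
  intro i j hij
  fin_cases i <;> fin_cases j <;> simp_all

theorem map4 {a b c d : GolayPt} (ha : a ∈ pts) (hb : b ∈ pts) (hab : a ≠ b) (hc : c ∈ pts) (hd : d ∈ pts)
    (hcd : c ≠ d) : ∃ g ∈ Spor.M22, g a = c ∧ g b = d := by
  obtain ⟨g, hg⟩ := Cfsg.Agent.SporadicStructure.M23Index253.exists_map Cfsg.Agent.S0366.result (by norm_num : 4 ≤ 5)
    _ _ (inj4 ha hb hab) (inj4 hc hd hcd)
  exact ⟨(g : Equiv.Perm GolayPt), ⟨⟨g.2, hg 0⟩, hg 1⟩, hg 2, hg 3⟩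

theorem map5 {a b c d : GolayPt} (ha : a ∈ pts) (hb : b ∈ pts) (hab : a ≠ b) (hc : c ∈ pts) (hd : d ∈ pts)
    (hca : a ≠ c) (hcb : b ≠ c) (hda : a ≠ d) (hdb : b ≠ d) : ∃ g ∈ Spor.M22, g a = a ∧ g b = b ∧ g c = d := by
  obtain ⟨g, hg⟩ := Cfsg.Agent.SporadicStructure.M23Index253.exists_map Cfsg.Agent.S0366.result (le_refl 5)
    _ _ (inj5 ha hb hc hab hca hcb) (inj5 ha hb hd hab hda hdb)
  exact ⟨(g : Equiv.Perm GolayPt), ⟨⟨g.2, hg 0⟩, hg 1⟩, hg 2, hg 3, hg 4⟩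

theorem finite_M22 : Finite Spor.M22 := Nat.finite_of_card_ne_zero (by rw [card_M22]; norm_num)

theorem deg_210 : ∃ χ : IrrCharacter Spor.M22, charDegree (χ : Spor.M22 → ℂ) = 210 := by
  classical
  have := finite_M22
  let _ := actOn Spor.M22 pts hpts
  have hc : Fintype.card pts = 22 := by
    rw [Fintype.card_of_subtype (Finset.univ.filter fun x : GolayPt => x ≠ none ∧ x ≠ some 0) (fun x => by
      rw [Finset.mem_filter]
      exact ⟨fun h => h.2, fun h => ⟨Finset.mem_univ _, h⟩⟩)]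
    decide +kernel
  have h1 : (some 1 : GolayPt) ∈ pts := by constructor <;> decide
  have h2 : (some 2 : GolayPt) ∈ pts := by constructor <;> decide
  have h12 : (some 1 : GolayPt) ≠ some 2 := by decide
  have := Wedge.exists_wedge (G := Spor.M22) (Ω := pts) hc (by norm_num) ?_
    (a := ⟨some 1, h1⟩) (b := ⟨some 2, h2⟩) (fun h => h12 (congrArg Subtype.val h)) ?_ ?_
  · simpa using this
  · intro a b c d hab hcd
    obtain ⟨g, hg, g1, g2⟩ := map4 a.2 b.2 (fun h => hab (Subtype.ext h)) c.2 d.2 (fun h => hcd (Subtype.ext h))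
    exact ⟨⟨g, hg⟩, Subtype.ext g1, Subtype.ext g2⟩
  · intro c d hca hcb hda hdb
    obtain ⟨g, hg, g1, g2, g3⟩ := map5 h1 h2 h12 c.2 d.2 (fun h => hca (Subtype.ext h.symm))
      (fun h => hcb (Subtype.ext h.symm)) (fun h => hda (Subtype.ext h.symm)) (fun h => hdb (Subtype.ext h.symm))
    exact ⟨⟨g, hg⟩, Subtype.ext g1, Subtype.ext g2, Subtype.ext g3⟩
  · intro c d hcd hca hcb hda hdb
    obtain ⟨g, hg, g1, g2⟩ := exists_swap (c := c.1) (d := d.1) (fun h => hcd (Subtype.ext h)) c.2.1 c.2.2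
      (fun h => hca (Subtype.ext h)) (fun h => hcb (Subtype.ext h)) d.2.1 d.2.2
      (fun h => hda (Subtype.ext h)) (fun h => hdb (Subtype.ext h))
    obtain ⟨f1, f2, f3, f4, f5⟩ := fix_of_fixing hg
    exact ⟨⟨g, ⟨f1, f2⟩, f3⟩, Subtype.ext f4, Subtype.ext f5, Subtype.ext g1, Subtype.ext g2⟩

/-! ### exact degrees from rank 3 -/

/-- Every solution of Frame's equations has `f = f0` (`f ≤ g`). -/
def chkf (k l f0 : ℕ) : Bool := (List.range ((k + l) / 2 + 1)).all fun f =>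
  (f == 0) || !(((1 + k + l) * k * l) % (f * (k + l - f)) == 0) ||
    (let D := ((1 + k + l) * k * l) / (f * (k + l - f)); !(Nat.sqrt D * Nat.sqrt D == D)) || f == f0

theorem chkf_spec {k l f0 : ℕ} (h : chkf k l f0 = true) {f g D : ℕ} (hfg : f + g = k + l) (hle : f ≤ g)
    (hf : f ≠ 0) (hprod : f * g * D = (1 + k + l) * k * l) (hD : IsSquare D) : f = f0 := by
  unfold chkf at h
  rw [List.all_eq_true] at h
  have h1 := h f (List.mem_range.2 (by omega))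
  have hg : k + l - f = g := by omega
  have hpos : 0 < f * g := Nat.mul_pos (by omega) (by omega)
  have h2 : (1 + k + l) * k * l % (f * g) = 0 := by
    rw [← hprod]
    exact Nat.mul_mod_right _ _
  have h3 : (1 + k + l) * k * l / (f * g) = D := by
    rw [← hprod]
    exact Nat.mul_div_cancel_left _ hpos
  obtain ⟨m, hm⟩ := hD
  have h4 : Nat.sqrt D * Nat.sqrt D = D := by
    rw [hm, Nat.sqrt_eq]
  simp only [hg, h2, h3, h4] at h1
  simpa [hf] using h1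

theorem im_of_chkf {G X : Type*} [Group G] [MulAction G X] [Finite G] {R : X → X → Prop} {k l : ℕ}
    (h : R3 G X R k l) (hodd : Odd (k + l) ∨ ¬ (k + l) / 2 ∣ Nat.card G) {f0 g0 : ℕ} (hg0 : f0 + g0 = k + l)
    (hc : chkf k l f0 = true) : H671.H5.IM f0 G ∧ H671.H5.IM g0 G := by
  classical
  have hn := h.cardn
  have hfin : Finite X := by
    by_contra hcon
    rw [not_finite_iff_infinite] at hcon
    rw [Nat.card_eq_zero_of_infinite] at hn
    omega
  have := Fintype.ofFinite X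
  obtain ⟨χ₁, χ₂, f, g, D, hf, hg, -, hfg, hprod, hsq⟩ := h.frame
  have hprod0 : (1 + k + l) * k * l ≠ 0 := by
    have := h.k0
    have := h.l0
    positivity
  have e1 : charDegree (χ₁ : G → ℂ) = f := Cfsg.Agent.Blocks.Basic.charDegree_of_eq hf
  have e2 : charDegree (χ₂ : G → ℂ) = g := Cfsg.Agent.Blocks.Basic.charDegree_of_eq hg
  have hne : f ≠ g := by
    rintro rfl
    rcases hodd with h1 | h1
    · rw [← hfg] at h1
      exact (Nat.not_odd_iff_even.2 ⟨f, rfl⟩) h1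
    · apply h1
      have h2 : (k + l) / 2 = f := by omega
      rw [h2, ← e1]
      exact Cfsg.Agent.Blocks.Knorr.charDegree_dvd χ₁.2
  have hf0 : f ≠ 0 := by
    rintro rfl
    rw [zero_mul, zero_mul] at hprod
    exact hprod0 hprod.symm
  have hg0' : g ≠ 0 := by
    rintro rfl
    rw [mul_zero, zero_mul] at hprod
    exact hprod0 hprod.symm
  rcases le_total f g with hle | hle
  · have h5 := chkf_spec hc hfg hle hf0 hprod (hsq hne)
    exact ⟨⟨χ₁, by rw [e1, h5]⟩, ⟨χ₂, by rw [e2]; exact ⟨1, by omega⟩⟩⟩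
  · have h5 := chkf_spec hc (by omega) hle hg0' (by rw [mul_comm g f]; exact hprod) (hsq hne)
    exact ⟨⟨χ₂, by rw [e2, h5]⟩, ⟨χ₁, by rw [e1]; exact ⟨1, by omega⟩⟩⟩

theorem im_m22_55 : H671.H5.IM 21 Spor.M22 ∧ H671.H5.IM 55 Spor.M22 := by
  let _ := actSub XH hXH
  exact im_of_chkf r3_hexads (Or.inr (by rw [card_M22]; decide)) rfl (by decide +kernel)

theorem im_m24_1035 : H671.H5.IM 252 M24 ∧ H671.H5.IM 1035 M24 := by
  let _ := actSub XD hXD
  exact im_of_chkf r3_m24 (Or.inl (by decide)) rfl (by decide +kernel)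

/-- **The degree graph of `M22`.** -/
theorem facts_m22 {S : Type u} [Group S] (h : Spor.IsoM22 S) : Facts S := by
  obtain ⟨e⟩ := h
  refine Facts.of_equiv e ?_
  have := finite_M22
  refine Facts.of_list (P := [2, 3, 7, 11, 5]) (D := [210, 55]) ?_ (by decide)
    (mem_of_card (f := fun _ => 7) ?_ ?_) ?_ (by decide +kernel)
  · intro p hp; fin_cases hp <;> norm_num
  · rw [card_M22]; decide +kernel
  · intro p hp; fin_cases hp <;> norm_num
  · intro m hm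
    simp only [List.mem_cons, List.not_mem_nil, or_false] at hm
    rcases hm with rfl | rfl
    · obtain ⟨χ, hχ⟩ := deg_210
      exact ⟨χ, by rw [hχ]⟩
    · exact im_m22_55.2

theorem im_m23_four {p : ℕ} (hp : p ∣ 23 - 1 ∨ p ∣ (23 - 1) * (23 - 2) / 2 ∨ p ∣ 23 * (23 - 3) / 2) :
    H671.H5.IM p Spor.M23 := by
  refine im_perm_four Spor.M23 {x | x ≠ none} ?_ 4 ?_ le_rfl (n := 23) ?_ (by norm_num) hp
  · intro g hg x hx h1
    have h2 : g none = none := hg.2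
    exact hx (g.injective (h1.trans h2.symm))
  · intro x y hx hy
    have hinj : ∀ z : Fin 4 ↪ GolayPt, (∀ i, z i ∈ {x : GolayPt | x ≠ none}) →
        Function.Injective (Fin.cons none z : Fin 5 → GolayPt) := by
      intro z hz
      rw [Fin.cons_injective_iff]
      refine ⟨?_, z.injective⟩
      rintro ⟨i, hi⟩
      exact hz i hi
    obtain ⟨g, hg⟩ := Cfsg.Agent.SporadicStructure.M23Index253.exists_map Cfsg.Agent.S0366.result le_rfl _ _
      (hinj x hx) (hinj y hy)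
    exact ⟨(g : Equiv.Perm GolayPt), ⟨g.2, hg 0⟩, fun i => hg i.succ⟩
  · have h1 : ({x | x ≠ none} : Set GolayPt) = Set.univ \ {none} := by
      ext x
      simp
    rw [Nat.card_coe_set_eq, h1, Set.ncard_sdiff_singleton_of_mem (Set.mem_univ _), Set.ncard_univ,
      Nat.card_eq_fintype_card]
    decide

/-- **The degree graph of `M23`.** -/
theorem facts_m23 {S : Type u} [Group S] (h : Spor.IsoM23 S) : Facts S := by
  obtain ⟨e⟩ := h
  refine Facts.of_equiv e ?_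
  have : Finite Spor.M23 := Nat.finite_of_card_ne_zero (by rw [card_M23]; norm_num)
  refine Facts.of_list (P := [3, 7, 11, 2, 5, 23]) (D := [22, 230, 231]) ?_ (by decide)
    (mem_of_card (f := fun _ => 7) ?_ ?_) ?_ (by decide +kernel)
  · intro p hp; fin_cases hp <;> norm_num
  · rw [card_M23]; decide +kernel
  · intro p hp; fin_cases hp <;> norm_num
  · intro m hm
    simp only [List.mem_cons, List.not_mem_nil, or_false] at hm
    rcases hm with rfl | rfl | rfl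
    · exact im_m23_four (by decide)
    · exact im_m23_four (by decide)
    · exact im_m23_four (by decide)

end Cfsg.Agent.H671.MFacts
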