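import Cfsg.Agent.H678.DG.Sph

/-!
# The exterior square of the deleted permutation module (helper671)

`exists_wedge` : `G` is transitive on the ordered pairs of distinct points of `Ω`, `n = |Ω| ≥ 4`, the stabiliser of
`a` and `b` is transitive on the other points and swaps any two of them: then `G` has an irreducible character of
degree `(n - 1) (n - 2) / 2`.
-/

set_option autoImplicit false
set_option linter.unusedSectionVars false
set_option linter.unusedVariables false

namespace Cfsg.Agent.H671.Wedge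

open Cfsg Cfsg.Agent.H678.DG.Sph
open scoped ComplexConjugate

universe u v

variable {G : Type u} [Group G] {Ω : Type v} [Fintype Ω] [DecidableEq Ω] [MulAction G Ω]

/-- the ordered pairs of distinct points -/
abbrev OP (Ω : Type v) := {p : Ω × Ω // p.1 ≠ p.2}

instance instMulActionOP : MulAction G (OP Ω) where
  smul g x := ⟨(g • x.1.1, g • x.1.2), fun h => x.2 (MulAction.injective g h)⟩
  one_smul x := Subtype.ext (Prod.ext (one_smul G _) (one_smul G _))
  mul_smul g h x := Subtype.ext (Prod.ext (mul_smul g h _) (mul_smul g h _))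

theorem smul_fst (g : G) (x : OP Ω) : (g • x).1.1 = g • x.1.1 := rfl

theorem smul_snd (g : G) (x : OP Ω) : (g • x).1.2 = g • x.1.2 := rfl

def sw (x : OP Ω) : OP Ω := ⟨(x.1.2, x.1.1), x.2.symm⟩

omit [Fintype Ω] [DecidableEq Ω] in
theorem smul_sw (g : G) (x : OP Ω) : g • sw x = sw (g • x) := rfl

/-- the antisymmetric functions with vanishing row sums -/
def VV (Ω : Type v) [Fintype Ω] [DecidableEq Ω] : Submodule ℂ (OP Ω → ℂ) where
  carrier := {φ | (∀ x, φ (sw x) = -φ x) ∧ ∀ a, ∑ x : OP Ω, (if x.1.1 = a then φ x else 0) = 0}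
  add_mem' := by
    rintro φ ψ ⟨h1, h2⟩ ⟨h3, h4⟩
    refine ⟨fun x => ?_, fun a => ?_⟩
    · rw [Pi.add_apply, Pi.add_apply, h1, h3]
      ring
    · have h : ∀ x : OP Ω, (if x.1.1 = a then (φ + ψ) x else 0) =
          (if x.1.1 = a then φ x else 0) + (if x.1.1 = a then ψ x else 0) := by
        intro x
        split_ifs
        · rfl
        · simp
      rw [Finset.sum_congr rfl fun x _ => h x, Finset.sum_add_distrib, h2, h4, add_zero]
  zero_mem' := ⟨fun _ => by simp, fun _ => by simp⟩
  smul_mem' := by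
    rintro c φ ⟨h1, h2⟩
    refine ⟨fun x => ?_, fun a => ?_⟩
    · rw [Pi.smul_apply, Pi.smul_apply, h1, smul_neg]
    · have h : ∀ x : OP Ω, (if x.1.1 = a then (c • φ) x else 0) = c * (if x.1.1 = a then φ x else 0) := by
        intro x
        split_ifs
        · rfl
        · simp
      rw [Finset.sum_congr rfl fun x _ => h x, ← Finset.mul_sum, h2, mul_zero]

theorem VV_inv (g : G) (φ : OP Ω → ℂ) (hφ : φ ∈ VV Ω) : (fun x => φ (g⁻¹ • x)) ∈ VV Ω := by
  obtain ⟨h1, h2⟩ := hφ
  refine ⟨fun x => ?_, fun a => ?_⟩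
  · show φ (g⁻¹ • sw x) = -φ (g⁻¹ • x)
    rw [smul_sw, h1]
  · refine Eq.trans ?_ (h2 (g⁻¹ • a))
    refine Fintype.sum_equiv (MulAction.toPerm g⁻¹) _ _ fun x => ?_
    rw [MulAction.toPerm_apply, smul_fst]
    by_cases h : x.1.1 = a
    · rw [if_pos h, if_pos (by rw [h])]
    · rw [if_neg h, if_neg fun h' => h (MulAction.injective g⁻¹ h')]

/-- sums over the pairs by rows -/
theorem sum_row (F : Ω → Ω → ℂ) (a : Ω) :
    ∑ x : OP Ω, (if x.1.1 = a then F x.1.1 x.1.2 else 0) = ∑ d ∈ Finset.univ.erase a, F a d := by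
  rw [← Finset.sum_filter]
  symm
  refine Finset.sum_bij (fun d hd => ⟨(a, d), (Finset.ne_of_mem_erase hd).symm⟩) ?_ ?_ ?_ ?_
  · intro d hd
    exact Finset.mem_filter.2 ⟨Finset.mem_univ _, rfl⟩
  · intro d hd e he h
    exact congrArg (fun x : OP Ω => x.1.2) h
  · rintro ⟨⟨c, d⟩, hcd⟩ hx
    have hc : c = a := (Finset.mem_filter.1 hx).2
    subst hc
    exact ⟨d, Finset.mem_erase.2 ⟨hcd.symm, Finset.mem_univ _⟩, rfl⟩
  · intro d hd
    rfl

theorem sum_all (F : Ω → Ω → ℂ) :
    ∑ x : OP Ω, F x.1.1 x.1.2 = ∑ a, ∑ d ∈ Finset.univ.erase a, F a d := by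
  rw [Finset.sum_congr rfl fun a _ => (sum_row F a).symm, Finset.sum_comm]
  refine Finset.sum_congr rfl fun x _ => ?_
  rw [Finset.sum_ite_eq Finset.univ x.1.1, if_pos (Finset.mem_univ _)]

/-- a sum over all but one point of a function with one exceptional value -/
theorem sum_one {a b : Ω} (hab : a ≠ b) {n : ℕ} (hn : Fintype.card Ω = n) (h4 : 2 ≤ n) (F : Ω → ℂ) (t : ℂ)
    (hF : ∀ d, d ≠ a → d ≠ b → F d = t) : ∑ d ∈ Finset.univ.erase a, F d = F b + ((n : ℂ) - 2) * t := by
  have hb : b ∈ Finset.univ.erase a := Finset.mem_erase.2 ⟨hab.symm, Finset.mem_univ _⟩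
  rw [← Finset.add_sum_erase _ _ hb, Finset.sum_congr rfl (g := fun _ => t), Finset.sum_const,
    Finset.card_erase_of_mem hb, Finset.card_erase_of_mem (Finset.mem_univ _), Finset.card_univ, hn, nsmul_eq_mul]
  · rw [show n - 1 - 1 = n - 2 by omega, Nat.cast_sub h4]
    norm_num
  · intro d hd
    rw [Finset.mem_erase, Finset.mem_erase] at hd
    exact hF d hd.2.1 hd.1

/-- a sum over all but one point of a function with two exceptional values and zero elsewhere -/
theorem sum_two {a b c : Ω} (hab : a ≠ b) (hca : c ≠ a) (hcb : c ≠ b) (F : Ω → ℂ)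
    (hF : ∀ d, d ≠ c → d ≠ a → d ≠ b → F d = 0) : ∑ d ∈ Finset.univ.erase c, F d = F a + F b := by
  rw [← Finset.sum_subset (s₁ := {a, b})]
  · rw [Finset.sum_pair hab]
  · intro x hx
    rw [Finset.mem_insert, Finset.mem_singleton] at hx
    rcases hx with rfl | rfl
    · exact Finset.mem_erase.2 ⟨hca.symm, Finset.mem_univ _⟩
    · exact Finset.mem_erase.2 ⟨hcb.symm, Finset.mem_univ _⟩
  · intro x hx hx'
    rw [Finset.mem_insert, Finset.mem_singleton, not_or] at hx'
    exact hF x (Finset.ne_of_mem_erase hx) hx'.1 hx'.2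

/-- the spherical function -/
noncomputable def ww (a b : Ω) (m : ℂ) (c d : Ω) : ℂ :=
  if c = a then (if d = b then 1 else -m⁻¹) else
    if c = b then (if d = a then -1 else m⁻¹) else
      if d = a then m⁻¹ else if d = b then -m⁻¹ else 0

theorem exists_wedge [Finite G] {n : ℕ} (hn : Fintype.card Ω = n) (h4 : 4 ≤ n)
    (h2 : ∀ a b c d : Ω, a ≠ b → c ≠ d → ∃ g : G, g • a = c ∧ g • b = d) {a b : Ω} (hab : a ≠ b)
    (h3 : ∀ c d : Ω, c ≠ a → c ≠ b → d ≠ a → d ≠ b → ∃ g : G, g • a = a ∧ g • b = b ∧ g • c = d)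
    (hsw : ∀ c d : Ω, c ≠ d → c ≠ a → c ≠ b → d ≠ a → d ≠ b →
      ∃ g : G, g • a = a ∧ g • b = b ∧ g • c = d ∧ g • d = c) :
    ∃ χ : IrrCharacter G, charDegree (χ : G → ℂ) = (n - 1) * (n - 2) / 2 := by
  have hm0 : ((n : ℂ) - 2) ≠ 0 := by
    have : ((n : ℂ) - 2) = ((n - 2 : ℕ) : ℂ) := by rw [Nat.cast_sub (by omega)]; norm_num
    rw [this]
    exact_mod_cast (by omega : n - 2 ≠ 0)
  have hn0 : (n : ℂ) ≠ 0 := by exact_mod_cast (by omega : n ≠ 0)
  set m : ℂ := (n : ℂ) - 2 with hm
  have hpt : MulAction.IsPretransitive G (OP Ω) := ⟨by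
    rintro ⟨⟨c, d⟩, h⟩ ⟨⟨c', d'⟩, h'⟩
    obtain ⟨g, h5, h6⟩ := h2 c d c' d' h h'
    exact ⟨g, Subtype.ext (Prod.ext h5 h6)⟩⟩
  let x₀ : OP Ω := ⟨(a, b), hab⟩
  let w : Ω → Ω → ℂ := ww a b m
  let v : OP Ω → ℂ := fun x => w x.1.1 x.1.2
  -- values of `w`
  have w_ab : w a b = 1 := by simp [w, ww]
  have w_ba : w b a = -1 := by simp [w, ww, hab.symm]
  have w_ad : ∀ d, d ≠ a → d ≠ b → w a d = -m⁻¹ := fun d _ h => by simp [w, ww, h]
  have w_bd : ∀ d, d ≠ b → d ≠ a → w b d = m⁻¹ := fun d _ h => by simp [w, ww, h, hab.symm]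
  have w_ca : ∀ c, c ≠ a → c ≠ b → w c a = m⁻¹ := fun c h h' => by simp [w, ww, h, h']
  have w_cb : ∀ c, c ≠ a → c ≠ b → w c b = -m⁻¹ := fun c h h' => by simp [w, ww, h, h', hab.symm]
  have w_cd : ∀ c d, c ≠ a → c ≠ b → d ≠ a → d ≠ b → w c d = 0 := fun c d h h' h5 h6 => by
    simp [w, ww, h, h', h5, h6]
  have hv : v ∈ VV Ω := by
    refine ⟨?_, ?_⟩
    · rintro ⟨⟨c, d⟩, hcd⟩
      show w d c = -w c d
      by_cases hca : c = a
      · subst hca
        by_cases hdb : d = b
        · subst hdb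
          rw [w_ab, w_ba]
        · rw [w_ca d (Ne.symm hcd) hdb, w_ad d (Ne.symm hcd) hdb, neg_neg]
      · by_cases hcb : c = b
        · subst hcb
          by_cases hda : d = a
          · subst hda
            rw [w_ab, w_ba, neg_neg]
          · rw [w_cb d hda (Ne.symm hcd), w_bd d (Ne.symm hcd) hda]
        · by_cases hda : d = a
          · subst hda
            rw [w_ad c hca hcb, w_ca c hca hcb]
          · by_cases hdb : d = b
            · subst hdb
              rw [w_bd c hcb hca, w_cb c hca hcb, neg_neg]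
            · rw [w_cd c d hca hcb hda hdb, w_cd d c hda hdb hca hcb, neg_zero]
    · intro c
      rw [sum_row w c]
      by_cases hca : c = a
      · subst hca
        rw [sum_one hab hn (by omega) (w c) (-m⁻¹) w_ad, w_ab, ← hm]
        field_simp
        ring
      · by_cases hcb : c = b
        · subst hcb
          rw [sum_one hab.symm hn (by omega) (w c) (m⁻¹) w_bd, w_ba, ← hm]
          field_simp
          ring
        · rw [sum_two hab hca hcb (w c) (fun d _ h5 h6 => w_cd c d hca hcb h5 h6), w_ca c hca hcb, w_cb c hca hcb]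
          ring
  obtain ⟨χ, hχ, -⟩ := exists_of_spherical' (G := G) (V := VV Ω) (fun g φ hφ => VV_inv g φ hφ) x₀ hv
    (by exact w_ab) (MulAction.stabilizer G x₀) (fun g hg => hg) (by
      rintro φ ⟨hφ1, hφ2⟩ hK
      have hK' : ∀ g : G, g • a = a → g • b = b → ∀ x, φ (g • x) = φ x := fun g ha hb x =>
        hK g (by
          rw [MulAction.mem_stabilizer_iff]
          exact Subtype.ext (Prod.ext ha hb)) x
      let f : Ω → Ω → ℂ := fun c d => if h : c ≠ d then φ ⟨(c, d), h⟩ else 0
      have hf : ∀ x : OP Ω, φ x = f x.1.1 x.1.2 := fun x => by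
        show φ x = dite _ _ _
        rw [dif_pos x.2]
      have hfs : ∀ c d, f d c = -f c d := by
        intro c d
        by_cases h : c = d
        · subst h; simp [f]
        · have e1 : f c d = φ ⟨(c, d), h⟩ := dif_pos h
          have e2 : f d c = φ ⟨(d, c), Ne.symm h⟩ := dif_pos (Ne.symm h)
          rw [e1, e2]
          exact hφ1 ⟨(c, d), h⟩
      have hfg : ∀ g : G, g • a = a → g • b = b → ∀ c d, f (g • c) (g • d) = f c d := by
        intro g ha hb c d
        by_cases h : c = d
        · subst h; simp [f]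
        · have h' : g • c ≠ g • d := fun h5 => h (MulAction.injective g h5)
          have e1 : f c d = φ ⟨(c, d), h⟩ := dif_pos h
          have e2 : f (g • c) (g • d) = φ ⟨(g • c, g • d), h'⟩ := dif_pos h'
          rw [e1, e2]
          exact hK' g ha hb ⟨(c, d), h⟩
      have hrow : ∀ c, ∑ d ∈ Finset.univ.erase c, f c d = 0 := by
        intro c
        rw [← sum_row f c]
        refine Eq.trans ?_ (hφ2 c)
        refine Finset.sum_congr rfl fun x _ => ?_
        rw [hf x]
      refine ⟨f a b, ?_⟩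
      -- the values of `f`
      have f_cd : ∀ c d, c ≠ d → c ≠ a → c ≠ b → d ≠ a → d ≠ b → f c d = 0 := by
        intro c d h h5 h6 h7 h8
        obtain ⟨g, ha, hb, h9, h10⟩ := hsw c d h h5 h6 h7 h8
        have h11 := hfg g ha hb c d
        rw [h9, h10, hfs] at h11
        have h12 : (2 : ℂ) * f c d = 0 := by linear_combination -h11
        exact (mul_eq_zero.1 h12).resolve_left two_ne_zero
      obtain ⟨c₀, hc0, hc0'⟩ : ∃ c₀ : Ω, c₀ ≠ a ∧ c₀ ≠ b := by
        by_contra hcon
        push Not at hcon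
        have h5 : (Finset.univ : Finset Ω) ⊆ {a, b} := by
          intro x _
          by_cases hx : x = a
          · simp [hx]
          · simp [hcon x hx]
        have h6 := Finset.card_le_card h5
        rw [Finset.card_univ, hn] at h6
        have h7 := Finset.card_le_two (a := a) (b := b)
        omega
      have f_ad : ∀ d, d ≠ a → d ≠ b → f a d = -m⁻¹ * f a b := by
        have h5 : ∀ d, d ≠ a → d ≠ b → f a d = f a c₀ := by
          intro d h6 h7
          obtain ⟨g, ha, hb, h8⟩ := h3 c₀ d hc0 hc0' h6 h7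
          have h9 := hfg g ha hb a c₀
          rwa [ha, h8] at h9
        have h6 := hrow a
        rw [sum_one hab hn (by omega) (f a) _ h5, ← hm] at h6
        intro d h7 h8
        rw [h5 d h7 h8]
        field_simp
        linear_combination h6
      have f_bd : ∀ d, d ≠ b → d ≠ a → f b d = m⁻¹ * f a b := by
        have h5 : ∀ d, d ≠ b → d ≠ a → f b d = f b c₀ := by
          intro d h6 h7
          obtain ⟨g, ha, hb, h8⟩ := h3 c₀ d hc0 hc0' h7 h6
          have h9 := hfg g ha hb b c₀
          rwa [hb, h8] at h9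
        have h6 := hrow b
        rw [sum_one hab.symm hn (by omega) (f b) _ h5, ← hm, hfs a b] at h6
        intro d h7 h8
        rw [h5 d h7 h8]
        field_simp
        linear_combination h6
      funext x
      rw [hf x, Pi.smul_apply, smul_eq_mul]
      obtain ⟨⟨c, d⟩, hcd⟩ := x
      show f c d = f a b * w c d
      replace hcd : c ≠ d := hcd
      by_cases hca : c = a
      · subst hca
        by_cases hdb : d = b
        · subst hdb
          rw [w_ab, mul_one]
        · rw [w_ad d hcd.symm hdb, f_ad d hcd.symm hdb, mul_comm]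
      · by_cases hcb : c = b
        · subst hcb
          by_cases hda : d = a
          · subst hda
            rw [w_ba, hfs]
            ring
          · rw [w_bd d hcd.symm hda, f_bd d hcd.symm hda, mul_comm]
        · by_cases hda : d = a
          · subst hda
            rw [w_ca c hca hcb, hfs, f_ad c hca hcb]
            ring
          · by_cases hdb : d = b
            · subst hdb
              rw [w_cb c hca hcb, hfs, f_bd c hcb hca]
              ring
            · rw [w_cd c d hca hcb hda hdb, f_cd c d hcd hca hcb hda hdb, mul_zero])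
  refine ⟨χ, ?_⟩
  have hcard : (Fintype.card (OP Ω) : ℂ) = (n : ℂ) * (n - 1) := by
    have h5 := sum_all (Ω := Ω) fun _ _ => (1 : ℂ)
    simp only [Finset.sum_const, Finset.card_univ, nsmul_eq_mul, mul_one,
      Finset.card_erase_of_mem (Finset.mem_univ _), hn] at h5
    rw [h5, Nat.cast_sub (by omega), Nat.cast_one]
  have hconj : ∀ c d, conj (w c d) = w c d := by
    intro c d
    have hmc : conj m = m := by
      rw [hm, map_sub, Complex.conj_natCast, Complex.conj_ofNat]
    simp only [w, ww]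
    split_ifs <;> simp [hmc]
  have hnrm : nrm v = 2 * n / m := by
    have h5 : nrm v = ∑ x : OP Ω, (fun c d => w c d * w c d) x.1.1 x.1.2 := by
      unfold nrm
      exact Finset.sum_congr rfl fun x _ => by
        show w _ _ * conj (w _ _) = _
        rw [hconj]
    rw [h5, sum_all (fun c d => w c d * w c d)]
    have hb : b ∈ Finset.univ.erase a := Finset.mem_erase.2 ⟨hab.symm, Finset.mem_univ _⟩
    rw [← Finset.add_sum_erase _ _ (Finset.mem_univ a),
      sum_one hab hn (by omega) (fun c => ∑ d ∈ Finset.univ.erase c, w c d * w c d) (2 * (m⁻¹ * m⁻¹)),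
      sum_one hab hn (by omega) (fun d => w a d * w a d) (m⁻¹ * m⁻¹),
      sum_one hab.symm hn (by omega) (fun d => w b d * w b d) (m⁻¹ * m⁻¹), w_ab, w_ba, ← hm]
    · have h6 : (n : ℂ) = m + 2 := by rw [hm]; ring
      rw [h6]
      field_simp
      ring
    · intro d h6 h7
      show w b d * w b d = _
      rw [w_bd d h6 h7]
    · intro d h6 h7
      show w a d * w a d = _
      rw [w_ad d h6 h7]
      ring
    · intro c h6 h7
      show ∑ d ∈ Finset.univ.erase c, w c d * w c d = _
      rw [sum_two hab h6 h7 (fun d => w c d * w c d)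
        (fun d _ h8 h9 => by show w c d * w c d = 0; rw [w_cd c d h6 h7 h8 h9, mul_zero])]
      show w c a * w c a + w c b * w c b = _
      rw [w_ca c h6 h7, w_cb c h6 h7]
      ring
  rw [hnrm, hcard] at hχ
  have h5 : (charDegree (χ : G → ℂ) : ℂ) * 2 = ((n : ℂ) - 1) * m := by
    have h6 : (charDegree (χ : G → ℂ) : ℂ) * (2 * n / m) * m = (n : ℂ) * (n - 1) * m := by rw [hχ]
    rw [mul_assoc, div_mul_cancel₀ _ hm0] at h6
    have h7 : (n : ℂ) * ((charDegree (χ : G → ℂ) : ℂ) * 2 - ((n : ℂ) - 1) * m) = 0 := by linear_combination h6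
    exact sub_eq_zero.1 ((mul_eq_zero.1 h7).resolve_left hn0)
  have h6 : charDegree (χ : G → ℂ) * 2 = (n - 1) * (n - 2) := by
    have h7 : ((charDegree (χ : G → ℂ) * 2 : ℕ) : ℂ) = (((n - 1) * (n - 2) : ℕ) : ℂ) := by
      push_cast [Nat.cast_sub (show 1 ≤ n by omega), Nat.cast_sub (show 2 ≤ n by omega)]
      rw [h5]
    exact_mod_cast h7
  omega

end Cfsg.Agent.H671.Wedge
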